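import Groth.Agent.L21.GorOpen.Chart
import Groth.Agent.L21.GorensteinCharts
import Groth.Agent.L02.CMMor.AffineChart
import Groth.Agent.L20.FlatStalk
import Groth.Agent.S0341
import Groth.Agent.S0342
import Mathlib.RingTheory.Etale.QuasiFinite
import Mathlib.AlgebraicGeometry.Morphisms.QuasiFinite

/-!
Openness of the Gorenstein locus of a flat morphism locally of finite presentation.
-/

set_option autoImplicit false
set_option backward.isDefEq.respectTransparency false
set_option linter.style.haveILetI false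

universe u

open CategoryTheory CategoryTheory.Limits AlgebraicGeometry IsLocalRing TensorProduct

noncomputable section

namespace Groth.L21.GorOpen

open Groth.L21.GorensteinCharts

variable {X Y : Scheme.{u}}

/-- Smooth morphisms are Gorenstein. -/
theorem isGorensteinAt_of_smooth (f : X ⟶ Y) [Smooth f] (x : X) : Dual3.IsGorensteinAt f x := by
  refine ⟨Flat.stalkMap f x, ?_⟩
  have hs : Smooth (f.fiberToSpecResidueField (f x)) :=
    MorphismProperty.pullback_snd f (Y.fromSpecResidueField (f x)) inferInstance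
  haveI := @Groth.L21.Smooth.regular_stalk _ _ _ (f.fiberToSpecResidueField (f x)) hs (f.asFiber x)
  exact Groth.Agent.S0342.result _

/-- A Gorenstein point is a Cohen–Macaulay point. -/
theorem isCMAt_of_isGorensteinAt (f : X ⟶ Y) (x : X) (h : Dual3.IsGorensteinAt f x) : MoreMor.IsCMAt f x :=
  ⟨h.1, @Groth.Agent.S0341.result _ _ h.2⟩

/-- Etale locally at a quasi-finite point a flat algebra is finite. -/
theorem exists_etale_finite (R T : Type u) [CommRing R] [CommRing T] [Algebra R T] [Algebra.FinitePresentation R T]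
    [Module.Flat R T] (q : Ideal T) [q.IsPrime] [Algebra.QuasiFiniteAt R q] :
    ∃ (R' T' : CommRingCat.{u}) (a : CommRingCat.of R ⟶ R') (b : CommRingCat.of T ⟶ T') (h : R' ⟶ T'),
      a.hom.Etale ∧ b.hom.Etale ∧ h.hom.Finite ∧ h.hom.Flat ∧ h.hom.FinitePresentation ∧
        CommRingCat.ofHom (algebraMap R T) ≫ b = a ≫ h ∧
          ∃ z : PrimeSpectrum T', z.asIdeal.comap b.hom = q := by
  obtain ⟨R', _, _, _, P, _, _, e, -, P', _, _, hP'q, heP', -, hfin, -⟩ :=
    Algebra.exists_etale_isIdempotentElem_forall_liesOver_eq (q.under R) q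
  haveI := hfin
  letI : Algebra T (R' ⊗[R] T) := Algebra.TensorProduct.rightAlgebra
  let T' := Localization.Away e
  let inr : T →+* R' ⊗[R] T := Algebra.TensorProduct.includeRight.toRingHom
  have hinr : inr.Etale := by
    show (algebraMap T (R' ⊗[R] T)).Etale
    rw [RingHom.etale_algebraMap]
    exact Algebra.Etale.of_equiv (Algebra.TensorProduct.commRight R T R')
  have hloc : (algebraMap (R' ⊗[R] T) T').Etale := by
    rw [RingHom.etale_algebraMap]
    exact Algebra.Etale.of_isLocalizationAway e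
  haveI : Module.Flat R' T' := Module.Flat.trans R' (R' ⊗[R] T) T'
  haveI : Algebra.FinitePresentation R' T' := by
    haveI : Algebra.FinitePresentation (R' ⊗[R] T) T' := IsLocalization.Away.finitePresentation e
    exact Algebra.FinitePresentation.trans R' (R' ⊗[R] T) T'
  refine ⟨CommRingCat.of R', CommRingCat.of T', CommRingCat.ofHom (algebraMap R R'),
    CommRingCat.ofHom ((algebraMap (R' ⊗[R] T) T').comp inr), CommRingCat.ofHom (algebraMap R' T'),
    RingHom.etale_algebraMap.2 inferInstance, RingHom.Etale.stableUnderComposition _ _ hinr hloc,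
    RingHom.finite_algebraMap.2 inferInstance, RingHom.flat_algebraMap_iff.2 inferInstance,
    RingHom.finitePresentation_algebraMap.2 inferInstance, ?_, ?_⟩
  · ext r
    show algebraMap (R' ⊗[R] T) T' (inr (algebraMap R T r)) = algebraMap R' T' (algebraMap R R' r)
    rw [IsScalarTower.algebraMap_apply R' (R' ⊗[R] T) T', ← IsScalarTower.algebraMap_apply R R' (R' ⊗[R] T)]
    exact congrArg _ (Algebra.TensorProduct.includeRight.commutes r)
  · have hdisj : Disjoint (Submonoid.powers e : Set (R' ⊗[R] T)) P' := by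
      rwa [Ideal.disjoint_powers_iff_notMem_of_isPrime]
    refine ⟨⟨P'.map (algebraMap (R' ⊗[R] T) T'),
      IsLocalization.isPrime_of_isPrime_disjoint (.powers e) _ _ ‹_› hdisj⟩, ?_⟩
    show (P'.map (algebraMap (R' ⊗[R] T) T')).comap ((algebraMap (R' ⊗[R] T) T').comp inr) = q
    rw [← Ideal.comap_comap]
    exact (congrArg (Ideal.comap inr)
      (IsLocalization.under_map_of_isPrime_disjoint (.powers e) T' ‹_› hdisj)).trans hP'q

/-- The Gorenstein locus of a flat quasi-finite morphism is open. -/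
theorem isOpen_gorenstein_quasiFinite (g : X ⟶ Y) [Flat g] [LocallyOfFinitePresentation g] [LocallyQuasiFinite g] :
    IsOpen {x | Dual3.IsGorensteinAt g x} := by
  rw [isOpen_iff_forall_mem_open]
  intro x hx
  obtain ⟨_, ⟨V, hV, rfl⟩, hxV, -⟩ :=
    Y.isBasis_affineOpens.exists_subset_of_mem_open (Set.mem_univ (g x)) isOpen_univ
  obtain ⟨_, ⟨U, hU, rfl⟩, hxU, hUV⟩ :=
    X.isBasis_affineOpens.exists_subset_of_mem_open (show x ∈ g ⁻¹ᵁ V from hxV) (g ⁻¹ᵁ V).isOpen
  letI : Algebra Γ(Y, V) Γ(X, U) := (g.appLE V U hUV).hom.toAlgebra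
  haveI : Algebra.FinitePresentation Γ(Y, V) Γ(X, U) := g.finitePresentation_appLE hV hU hUV
  haveI : Module.Flat Γ(Y, V) Γ(X, U) := g.flat_appLE hV hU hUV
  haveI : Algebra.QuasiFinite Γ(Y, V) Γ(X, U) := LocallyQuasiFinite.quasiFinite_appLE hV hU hUV
  obtain ⟨R', T', a, b, h, ha, hb, hfin, hflat, hfp, hcomm, z, hz⟩ :=
    exists_etale_finite Γ(Y, V) Γ(X, U) (hU.primeIdealOf ⟨x, hxU⟩).asIdeal
  haveI : Etale (Spec.map a) := (HasRingHomProperty.Spec_iff (P := @Etale)).2 ha
  haveI : Etale (Spec.map b) := (HasRingHomProperty.Spec_iff (P := @Etale)).2 hb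
  haveI : Flat (Spec.map h) := (HasRingHomProperty.Spec_iff (P := @Flat)).2 hflat
  let ψ : Spec T' ⟶ X := Spec.map b ≫ hU.fromSpec
  let χ : Spec R' ⟶ Y := Spec.map a ≫ hV.fromSpec
  have hsq : Spec.map h ≫ χ = ψ ≫ g := by
    simp only [χ, ψ, Category.assoc]
    rw [← IsAffineOpen.SpecMap_appLE_fromSpec g hV hU hUV, ← Category.assoc, ← Category.assoc, ← Spec.map_comp,
      ← Spec.map_comp]
    exact congrArg (fun m => Spec.map m ≫ hV.fromSpec) hcomm.symm
  haveI : Etale ψ := inferInstance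
  haveI : Etale χ := inferInstance
  have key : ∀ w, Dual3.IsGorensteinAt (Spec.map h) w ↔ Dual3.IsGorensteinAt g (ψ w) := fun w => by
    rw [← isGorensteinAt_comp_etale_iff (Spec.map h) χ, isGorensteinAt_congr hsq w,
      isGorensteinAt_etale_comp_iff]
  have hψz : ψ z = x := by
    show hU.fromSpec (Spec.map b z) = x
    rw [show Spec.map b z = hU.primeIdealOf ⟨x, hxU⟩ from PrimeSpectrum.ext hz]
    exact hU.fromSpec_primeIdealOf ⟨x, hxU⟩
  refine ⟨⇑ψ '' {w | Dual3.IsGorensteinAt (Spec.map h) w}, ?_, ψ.isOpenMap _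
    (isOpen_gorenstein_finite h hfin hflat hfp), z, (key z).2 (hψz ▸ hx), hψz⟩
  rintro _ ⟨w, hw, rfl⟩
  exact (key w).1 hw

/-- The Gorenstein locus of a flat morphism locally of finite presentation is open. -/
theorem isOpen_gorenstein (f : X ⟶ Y) [Flat f] [LocallyOfFinitePresentation f] :
    IsOpen {x | Dual3.IsGorensteinAt f x} := by
  rw [isOpen_iff_forall_mem_open]
  intro x hx
  obtain ⟨n, U, hxU, g, hg, hqf, hgflat⟩ := L02.CMMor.exists_chart f x (isCMAt_of_isGorensteinAt f x hx)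
  let π := 𝔸(ULift.{u} (Fin n); Y) ↘ Y
  haveI : Smooth π := L02.CMMor.smooth_affineSpace _ Y
  haveI : LocallyOfFinitePresentation (g ≫ π) := by rw [hg]; infer_instance
  haveI : LocallyOfFinitePresentation g := Groth.L20.locallyOfFinitePresentation_of_comp g π
  let U₁ : (U : Scheme.{u}).Opens := ⟨{z | (g.stalkMap z).hom.Flat}, Groth.L20.isOpen_flat_stalkMap g⟩
  haveI := hqf
  haveI : Flat (U₁.ι ≫ g) := Flat.of_stalkMap _ fun z => by
    rw [Scheme.Hom.stalkMap_comp]
    exact ((RingHom.Flat.respectsIso.cancel_right_isIso (g.stalkMap (U₁.ι z)) (U₁.ι.stalkMap z))).2 z.2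
  let j : (U₁ : Scheme.{u}) ⟶ X := U₁.ι ≫ U.ι
  have hj : j ≫ f = (U₁.ι ≫ g) ≫ π := by simp only [j, π, Category.assoc, hg]
  let z₀ : (U₁ : Scheme.{u}) := ⟨⟨x, hxU⟩, hgflat⟩
  have h0 : Dual3.IsGorensteinAt (U₁.ι ≫ g) z₀ := by
    have h1 : Dual3.IsGorensteinAt (j ≫ f) z₀ := (isGorensteinAt_etale_comp_iff j f z₀).2 hx
    rw [isGorensteinAt_congr hj] at h1
    exact ((isGorensteinAt_comp_of (U₁.ι ≫ g) π z₀).2 h1 (Flat.stalkMap _ z₀)).1
  refine ⟨⇑j '' {w | Dual3.IsGorensteinAt (U₁.ι ≫ g) w}, ?_, j.isOpenMap _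
    (isOpen_gorenstein_quasiFinite (U₁.ι ≫ g)), z₀, h0, rfl⟩
  rintro _ ⟨w, hw, rfl⟩
  refine (isGorensteinAt_etale_comp_iff j f w).1 ?_
  rw [isGorensteinAt_congr hj]
  refine (isGorensteinAt_comp_of (U₁.ι ≫ g) π w).1 ?_ hw (isGorensteinAt_of_smooth π _)
  haveI : LocallyOfFiniteType (((U₁.ι ≫ g) ≫ π).fiberToSpecResidueField (((U₁.ι ≫ g) ≫ π) w)) :=
    MorphismProperty.pullback_snd ((U₁.ι ≫ g) ≫ π) (Y.fromSpecResidueField (((U₁.ι ≫ g) ≫ π) w)) inferInstance
  haveI := LocallyOfFiniteType.isLocallyNoetherian (((U₁.ι ≫ g) ≫ π).fiberToSpecResidueField (((U₁.ι ≫ g) ≫ π) w))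
  infer_instance

end Groth.L21.GorOpen
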