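import Groth.Agent.L21.GorOpen.Finite
import Groth.Agent.L21.GorensteinScheme

/-!
The Gorenstein condition at a point read on affine charts; openness for finite flat morphisms.
-/

set_option autoImplicit false
set_option backward.isDefEq.respectTransparency false
set_option linter.style.haveILetI false

universe u

open CategoryTheory AlgebraicGeometry IsLocalRing TensorProduct

noncomputable section

namespace Groth.L21.GorOpen

/-- The fibrewise Gorenstein condition at a prime of an algebra. -/
def GorPrime (R B : Type u) [CommRing R] [CommRing B] [Algebra R B] (Q : PrimeSpectrum B) : Prop :=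
  LocCoh.IsGorensteinLocalRing
    (Localization.AtPrime Q.asIdeal ⧸ (Q.asIdeal.under R).map (algebraMap R (Localization.AtPrime Q.asIdeal)))

theorem gorPrime_iff (R B : Type u) [CommRing R] [CommRing B] [Algebra R B] [Module.Finite R B]
    [Module.Projective R B] (Q : PrimeSpectrum B) :
    letI := dualModule R B
    GorPrime R B Q ↔ ∃ φ : B →ₗ[R] R, Q ∉ Module.support B ((B →ₗ[R] R) ⧸ Submodule.span B {φ}) := by
  letI := dualModule R B
  let p := Q.asIdeal.under R
  obtain ⟨q, hq⟩ : ∃ q : PrimeSpectrum (p.Fiber B),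
      q.asIdeal.comap Algebra.TensorProduct.includeRight = Q.asIdeal := by
    refine ⟨PrimeSpectrum.preimageEquivFiber R B ⟨p, inferInstance⟩ ⟨Q, rfl⟩, ?_⟩
    have := (PrimeSpectrum.preimageEquivFiber R B ⟨p, inferInstance⟩).symm_apply_apply ⟨Q, rfl⟩
    exact congrArg (fun z => z.1.asIdeal) this
  let Q' := q.asIdeal.comap (Algebra.TensorProduct.includeRight (R := R) (A := p.ResidueField) (B := B))
  haveI : Q'.LiesOver p := ⟨by rw [show Q' = Q.asIdeal from hq]⟩
  letI := Localization.AtPrime.algebraOfLiesOver p Q'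
  have hQ : Q = ⟨Q', inferInstance⟩ := PrimeSpectrum.ext hq.symm
  have e : Localization.AtPrime q.asIdeal ≃+* Localization.AtPrime Q' ⧸ p.map (algebraMap R (Localization.AtPrime Q')) :=
    (Ideal.Fiber.localizationAlgEquivQuotient p q.asIdeal).toRingEquiv
  have hiff : GorPrime R B Q ↔
      LocCoh.IsGorensteinLocalRing (Localization.AtPrime Q' ⧸ p.map (algebraMap R (Localization.AtPrime Q'))) := by
    have h : GorPrime R B Q ↔ GorPrime R B ⟨Q', inferInstance⟩ := by rw [← hQ]
    refine h.trans ?_
    have hp : Q'.under R = p := (Q'.over_def p).symm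
    unfold GorPrime
    dsimp only
    rw [hp]
  rw [hiff, ← gorenstein_iff_exists_generator p q.asIdeal Q hq.symm]
  exact ⟨GorensteinAscend.isGorensteinLocalRing_of_ringEquiv e.symm,
    GorensteinAscend.isGorensteinLocalRing_of_ringEquiv e⟩

/-- The fibrewise Gorenstein locus of a finite projective algebra is open. -/
theorem isOpen_gorPrime (R B : Type u) [CommRing R] [CommRing B] [Algebra R B] [Module.Finite R B]
    [Module.Projective R B] : IsOpen {Q | GorPrime R B Q} := by
  letI := dualModule R B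
  haveI : IsScalarTower R B (B →ₗ[R] R) := IsScalarTower.of_algebraMap_smul fun x f => LinearMap.ext fun y => by
    show f (algebraMap R B x * y) = _
    rw [← Algebra.smul_def, map_smul]
    rfl
  haveI : Module.Finite B (B →ₗ[R] R) := Module.Finite.of_restrictScalars_finite R B _
  have : {Q | GorPrime R B Q} =
      ⋃ φ : B →ₗ[R] R, (Module.support B ((B →ₗ[R] R) ⧸ Submodule.span B {φ}))ᶜ := by
    ext Q
    simp only [Set.mem_iUnion, Set.mem_compl_iff]
    exact gorPrime_iff R B Q
  rw [this]
  exact isOpen_iUnion fun φ => Module.isClosed_support.isOpen_compl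

variable {X S : Scheme.{u}}

/-- The Gorenstein condition at a point of an affine chart. -/
theorem isGorensteinAt_iff_gorPrime (f : X ⟶ S) [Flat f] {V : S.Opens} (hV : IsAffineOpen V) {U : X.Opens}
    (hU : IsAffineOpen U) (hUV : U ≤ f ⁻¹ᵁ V) (y : X) (hyU : y ∈ U) :
    letI := (f.appLE V U hUV).hom.toAlgebra
    Dual3.IsGorensteinAt f y ↔ GorPrime Γ(S, V) Γ(X, U) (hU.primeIdealOf ⟨y, hyU⟩) := by
  letI : Algebra Γ(S, V) Γ(X, U) := (f.appLE V U hUV).hom.toAlgebra
  let Q := (hU.primeIdealOf ⟨y, hyU⟩).asIdeal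
  letI : Algebra Γ(X, U) (X.presheaf.stalk y) := (X.presheaf.germ U y hyU).hom.toAlgebra
  haveI : IsLocalization.AtPrime (X.presheaf.stalk y) Q := hU.isLocalization_stalk ⟨y, hyU⟩
  letI : Algebra Γ(S, V) (X.presheaf.stalk y) :=
    ((algebraMap Γ(X, U) (X.presheaf.stalk y)).comp (algebraMap Γ(S, V) Γ(X, U))).toAlgebra
  haveI : IsScalarTower Γ(S, V) Γ(X, U) (X.presheaf.stalk y) := IsScalarTower.of_algebraMap_eq fun _ => rfl
  let e := (IsLocalization.algEquiv Q.primeCompl (Localization.AtPrime Q) (X.presheaf.stalk y)).restrictScalars Γ(S, V)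
  have hm : (IsLocalRing.maximalIdeal (S.presheaf.stalk (f y))).map (f.stalkMap y).hom =
      (Q.under Γ(S, V)).map (algebraMap Γ(S, V) (X.presheaf.stalk y)) := by
    letI : Algebra Γ(S, V) (S.presheaf.stalk (f y)) := (S.presheaf.germ V (f y) (hUV hyU)).hom.toAlgebra
    haveI : IsLocalization.AtPrime (S.presheaf.stalk (f y)) (hV.primeIdealOf ⟨f y, hUV hyU⟩).asIdeal :=
      hV.isLocalization_stalk ⟨f y, hUV hyU⟩
    have hp : (hV.primeIdealOf ⟨f y, hUV hyU⟩).asIdeal = Q.under Γ(S, V) :=
      (congrArg PrimeSpectrum.asIdeal (IsAffineOpen.comap_primeIdealOf_appLE V hV U hU hUV hyU)).symm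
    rw [← IsLocalization.AtPrime.map_eq_maximalIdeal (hV.primeIdealOf ⟨f y, hUV hyU⟩).asIdeal, Ideal.map_map, hp]
    congr 1
    refine RingHom.ext fun a => ?_
    show (f.stalkMap y) (S.presheaf.germ V (f y) (hUV hyU) a) = X.presheaf.germ U y hyU (f.appLE V U hUV a)
    rw [Scheme.Hom.appLE, CommRingCat.comp_apply]
    refine (Scheme.Hom.germ_stalkMap_apply f V y (hUV hyU) a).trans ?_
    exact (X.presheaf.germ_res_apply _ y hyU _).symm
  letI := (f.stalkMap y).hom.toAlgebra
  let eq : (Localization.AtPrime Q ⧸ (Q.under Γ(S, V)).map (algebraMap Γ(S, V) (Localization.AtPrime Q))) ≃+*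
      EGA4.FibRing (S.presheaf.stalk (f y)) (X.presheaf.stalk y) := by
    refine Ideal.quotientEquiv _ _ e.toRingEquiv ?_
    rw [Ideal.map_map]
    refine hm.trans (congrArg (fun g => Ideal.map g (Q.under Γ(S, V))) (RingHom.ext fun a => ?_))
    exact (e.commutes a).symm
  refine Iff.trans ⟨fun h => (GorensteinScheme.gorenstein_fibre_iff f y).2 h.2,
    fun h => ⟨Flat.stalkMap f y, (GorensteinScheme.gorenstein_fibre_iff f y).1 h⟩⟩ ?_
  exact ⟨GorensteinAscend.isGorensteinLocalRing_of_ringEquiv eq.symm,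
    GorensteinAscend.isGorensteinLocalRing_of_ringEquiv eq⟩

/-- The Gorenstein locus of a finite flat finitely presented morphism of affine schemes is open. -/
theorem isOpen_gorenstein_finite {A B : CommRingCat.{u}} (φ : A ⟶ B) (hfin : φ.hom.Finite)
    (hflat : φ.hom.Flat) (hfp : φ.hom.FinitePresentation) :
    IsOpen {x | Dual3.IsGorensteinAt (Spec.map φ) x} := by
  haveI : Flat (Spec.map φ) := (HasRingHomProperty.Spec_iff (P := @Flat)).2 hflat
  haveI : LocallyOfFinitePresentation (Spec.map φ) :=
    (HasRingHomProperty.Spec_iff (P := @LocallyOfFinitePresentation)).2 hfp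
  haveI : IsFinite (Spec.map φ) := (IsFinite.SpecMap_iff φ).2 hfin
  let f := Spec.map φ
  let R := Γ(Spec A, ⊤)
  let T := Γ(Spec B, ⊤)
  letI : Algebra R T := (f.appLE ⊤ ⊤ le_top).hom.toAlgebra
  haveI : Module.Flat R T := f.flat_appLE (isAffineOpen_top _) (isAffineOpen_top _) le_top
  haveI : Algebra.FinitePresentation R T :=
    f.finitePresentation_appLE (isAffineOpen_top _) (isAffineOpen_top _) le_top
  haveI : Module.Finite R T := by
    show (f.appLE ⊤ ⊤ le_top).hom.Finite
    rw [show f.appLE ⊤ ⊤ le_top = f.app ⊤ from f.app_eq_appLE.symm]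
    exact IsFinite.finite_app f ⊤ (isAffineOpen_top _)
  haveI : Module.FinitePresentation R T := Module.FinitePresentation.of_finite_of_finitePresentation R T
  haveI : Module.Projective R T := Module.Flat.projective_of_finitePresentation
  have h : {x | Dual3.IsGorensteinAt f x} =
      (fun x : ↥(Spec B) => (isAffineOpen_top (Spec B)).primeIdealOf ⟨x, trivial⟩) ⁻¹' {Q | GorPrime R T Q} := by
    ext x
    exact isGorensteinAt_iff_gorPrime f (isAffineOpen_top _) (isAffineOpen_top _) le_top x trivial
  rw [h]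
  refine (isOpen_gorPrime R T).preimage ?_
  exact ((isAffineOpen_top (Spec B)).isoSpec.hom.continuous).comp (continuous_id.subtype_mk _)

end Groth.L21.GorOpen
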