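import Groth.Agent.L13.LiaisonDouble
import Mathlib.LinearAlgebra.Dual.Lemmas
import Groth.Agent.L02.CMMor.Locus
import Mathlib.RingTheory.Support
import Mathlib.RingTheory.Artinian.Ring
import Mathlib.LinearAlgebra.TensorProduct.Tower
import Mathlib.RingTheory.Finiteness.Projective
import Mathlib.RingTheory.LocalRing.ResidueField.Fiber

/-!
Openness of the fibrewise Gorenstein locus of a finite projective algebra: a fibre is Gorenstein
near a point exactly when the module of functionals is generated there by one functional.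
-/

set_option autoImplicit false
set_option backward.isDefEq.respectTransparency false
set_option linter.style.haveILetI false

universe u

open IsLocalRing TensorProduct

noncomputable section

namespace Groth.L21.GorOpen

/-- An algebra of finite dimension with a nondegenerate functional is Gorenstein. -/
theorem isGorensteinLocalRing_of_functional {k A : Type u} [Field k] [CommRing A] [IsLocalRing A]
    [Algebra k A] [Module.Finite k A] (ψ : A →ₗ[k] k)
    (hψ : ∀ a, (∀ b, ψ (a * b) = 0) → a = 0) : LocCoh.IsGorensteinLocalRing A := by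
  haveI : IsNoetherianRing A := isNoetherian_of_tower k inferInstance
  haveI : Module.Injective A A := by
    refine Module.Baer.injective fun I g => ?_
    obtain ⟨lam, hlam⟩ := LinearMap.exists_extend (ψ ∘ₗ g.restrictScalars k : ↥(I.restrictScalars k) →ₗ[k] k)
    let D : A →ₗ[k] Module.Dual k A := LinearMap.compr₂ (LinearMap.mul k A) ψ
    have hD : Function.Injective D :=
      (injective_iff_map_eq_zero D).2 fun a ha => hψ a fun b => LinearMap.congr_fun ha b
    obtain ⟨a, ha⟩ := (LinearMap.injective_iff_surjective_of_finrank_eq_finrank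
      (Subspace.dual_finrank_eq (K := k) (V := A)).symm).1 hD lam
    refine ⟨LinearMap.toSpanSingleton A A a, fun x hx => sub_eq_zero.1 (hψ _ fun r => ?_)⟩
    have h2 := LinearMap.congr_fun hlam ⟨r * x, I.mul_mem_left r hx⟩
    have h3 : ψ (a * (r * x)) = lam (r * x) := LinearMap.congr_fun ha (r * x)
    have h4 : g ⟨r * x, I.mul_mem_left r hx⟩ = r * g ⟨x, hx⟩ := by
      exact g.map_smul r ⟨x, hx⟩
    change lam (r * x) = ψ (g ⟨r * x, I.mul_mem_left r hx⟩) at h2
    rw [h4, ← h3] at h2
    rw [LinearMap.toSpanSingleton_apply, smul_eq_mul, sub_mul, map_sub, sub_eq_zero,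
      mul_comm (g ⟨x, hx⟩) r, ← h2]
    congr 1
    ring
  haveI : CategoryTheory.Injective (ModuleCat.of A A) :=
    Module.injective_object_of_injective_module A A
  exact { exists_hasInjectiveDimensionLT := ⟨1, inferInstance⟩ }


/-- A Gorenstein finite-dimensional local algebra has a nondegenerate functional. -/
theorem exists_functional (k A : Type u) [Field k] [CommRing A] [Algebra k A] [Module.Finite k A]
    [LocCoh.IsGorensteinLocalRing A] : ∃ ψ : A →ₗ[k] k, ∀ a, (∀ b, ψ (a * b) = 0) → a = 0 := by
  classical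
  haveI : IsArtinianRing A := IsArtinianRing.of_finite k A
  have hd : ringKrullDim A = 0 :=
    le_antisymm (Ring.krullDimLE_iff.1 (inferInstance : Ring.KrullDimLE 0 A)) ringKrullDim_nonneg_of_nontrivial
  haveI := Groth.L13.Liaison.injective_self_of_dim_zero hd
  obtain ⟨N, hN⟩ : IsNilpotent (maximalIdeal A) := by
    rw [← IsLocalRing.jacobson_eq_maximalIdeal (⊥ : Ideal A) bot_ne_top]
    exact IsArtinianRing.isNilpotent_jacobson_bot
  -- every nonzero element has a nonzero multiple killed by the maximal ideal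
  have hsoc : ∀ a : A, a ≠ 0 → ∃ c, a * c ≠ 0 ∧ ∀ r ∈ maximalIdeal A, r * (a * c) = 0 := by
    intro a ha
    have hex : ∃ n, ∀ c ∈ maximalIdeal A ^ n, a * c = 0 := ⟨N, fun c hc => by
      rw [hN, Ideal.zero_eq_bot, Ideal.mem_bot] at hc
      rw [hc, mul_zero]⟩
    obtain ⟨m, hm⟩ : ∃ m, Nat.find hex = m + 1 := Nat.exists_eq_succ_of_ne_zero fun h0 => ha (by
      have := Nat.find_spec hex
      rw [h0] at this
      simpa using this 1 (by simp))
    obtain ⟨c, hc, hac⟩ : ∃ c ∈ maximalIdeal A ^ m, a * c ≠ 0 := by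
      simpa using Nat.find_min hex (m := m) (by omega)
    refine ⟨c, hac, fun r hr => ?_⟩
    have := Nat.find_spec hex
    rw [hm] at this
    rw [mul_left_comm]
    exact this (r * c) (by rw [pow_succ']; exact Ideal.mul_mem_mul hr hc)
  obtain ⟨c₀, hs, hsm⟩ := hsoc 1 one_ne_zero
  rw [one_mul] at hs hsm
  obtain ⟨ψ, hψ⟩ : ∃ ψ : Module.Dual k A, ψ c₀ ≠ 0 := by
    by_contra! h
    exact hs ((Module.forall_dual_apply_eq_zero_iff k c₀).1 h)
  refine ⟨ψ, fun a ha => ?_⟩
  by_contra hne
  obtain ⟨c, hac, hmc⟩ := hsoc a hne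
  let f : (A ⧸ maximalIdeal A) →ₗ[A] A := Submodule.liftQ (maximalIdeal A) (LinearMap.toSpanSingleton A A (a * c))
    fun r hr => hmc r hr
  let g : (A ⧸ maximalIdeal A) →ₗ[A] A := Submodule.liftQ (maximalIdeal A) (LinearMap.toSpanSingleton A A c₀)
    fun r hr => hsm r hr
  have hf : Function.Injective f := by
    rw [injective_iff_map_eq_zero]
    intro z hz
    obtain ⟨r, rfl⟩ := Submodule.Quotient.mk_surjective _ z
    rw [Submodule.Quotient.mk_eq_zero]
    change r * (a * c) = 0 at hz
    by_contra hr
    obtain ⟨w, rfl⟩ := (IsLocalRing.notMem_maximalIdeal.1 hr)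
    exact hac (by rwa [Units.mul_right_eq_zero] at hz)
  obtain ⟨h, hh⟩ := Module.Injective.out f hf g
  have h1 : h (f (Submodule.Quotient.mk 1)) = c₀ := by
    rw [hh]
    exact one_smul A c₀
  change h ((1 : A) • (a * c)) = c₀ at h1
  rw [one_smul, show a * c = (a * c) • (1 : A) from (mul_one _).symm, map_smul, smul_eq_mul] at h1
  exact hψ (by rw [← h1, mul_assoc]; exact ha _)

section Factor

variable {C : Type u} [CommRing C] [IsArtinianRing C] (q : Ideal C) [q.IsPrime]

/-- An element cutting out a local factor of an Artinian ring. -/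
theorem exists_factor_unit : ∃ e : C, algebraMap C (Localization.AtPrime q) e = 1 ∧
    ∀ c, algebraMap C (Localization.AtPrime q) c = 0 → e * c = 0 := by
  classical
  obtain ⟨G, hG⟩ := (IsNoetherian.noetherian (RingHom.ker (algebraMap C (Localization.AtPrime q))) :
    (RingHom.ker (algebraMap C (Localization.AtPrime q))).FG)
  have : ∀ g : G, ∃ t ∈ q.primeCompl, t * (g : C) = 0 := fun g => by
    obtain ⟨t, ht⟩ := (IsLocalization.map_eq_zero_iff q.primeCompl (Localization.AtPrime q) (g : C)).1
      (RingHom.mem_ker.1 (hG ▸ Ideal.subset_span g.2))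
    exact ⟨t, t.2, ht⟩
  choose t ht htg using this
  obtain ⟨c, hc⟩ := IsArtinianRing.localization_surjective q.primeCompl (Localization.AtPrime q)
    ((IsLocalization.map_units (Localization.AtPrime q)
      (⟨∏ g, t g, Submonoid.prod_mem _ fun g _ => ht g⟩ : q.primeCompl)).unit⁻¹ : (Localization.AtPrime q)ˣ)
  refine ⟨(∏ g, t g) * c, by rw [map_mul, hc]; exact IsUnit.mul_val_inv _, fun z hz => ?_⟩
  have hz' : z ∈ Submodule.span C (G : Set C) := by rw [hG]; exact RingHom.mem_ker.2 hz
  clear hz
  induction hz' using Submodule.span_induction with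
  | mem x hx =>
    rw [← Finset.prod_erase_mul _ _ (Finset.mem_univ (⟨x, hx⟩ : G))]
    linear_combination (c * ∏ g ∈ Finset.univ.erase (⟨x, hx⟩ : G), t g) * htg ⟨x, hx⟩
  | zero => exact mul_zero _
  | add x y _ _ hx hy => rw [mul_add, hx, hy, add_zero]
  | smul r x _ hx => rw [smul_eq_mul, mul_left_comm, hx, mul_zero]

end Factor

variable (R B : Type u) [CommRing R] [CommRing B] [Algebra R B]

/-- Functionals on an algebra as a module over it. -/
abbrev dualModule : Module B (B →ₗ[R] R) where
  smul b χ := χ ∘ₗ LinearMap.mulLeft R b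
  one_smul χ := LinearMap.ext fun y => congrArg χ (one_mul y)
  mul_smul b b' χ := LinearMap.ext fun y => congrArg χ ((mul_assoc b b' y).trans (mul_left_comm b b' y))
  smul_zero _ := LinearMap.ext fun _ => rfl
  smul_add _ _ _ := LinearMap.ext fun _ => rfl
  add_smul b b' χ := LinearMap.ext fun y => (congrArg χ (add_mul b b' y)).trans (map_add χ _ _)
  zero_smul χ := LinearMap.ext fun y => (congrArg χ (zero_mul y)).trans (map_zero χ)

variable {R B}

section Fibre

variable (p : Ideal R) [p.IsPrime]

/-- A functional on the fibre induced by a functional on the algebra. -/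
def barF (φ : B →ₗ[R] R) : p.Fiber B →ₗ[p.ResidueField] p.ResidueField :=
  LinearMap.liftBaseChange p.ResidueField (Algebra.linearMap R p.ResidueField ∘ₗ φ)

theorem barF_tmul (φ : B →ₗ[R] R) (l : p.ResidueField) (y : B) :
    barF p φ (l ⊗ₜ y) = l * algebraMap R p.ResidueField (φ y) := by
  simp [barF]

theorem barF_eq_mul {χ φ : B →ₗ[R] R} {s b : B}
    (h : ∀ y, algebraMap R p.ResidueField (χ (s * y)) = algebraMap R p.ResidueField (φ (b * y)))
    (z : p.Fiber B) : barF p χ ((1 ⊗ₜ s) * z) = barF p φ ((1 ⊗ₜ b) * z) := by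
  induction z using TensorProduct.induction_on with
  | zero => simp
  | tmul l y => rw [Algebra.TensorProduct.tmul_mul_tmul, Algebra.TensorProduct.tmul_mul_tmul, barF_tmul, barF_tmul, h]
  | add x y hx hy => rw [mul_add, mul_add, map_add, map_add, hx, hy]

theorem exists_smul_eq_tmul (c : p.Fiber B) : ∃ (u : R) (b : B), u ∉ p ∧
    algebraMap R p.ResidueField u • c = 1 ⊗ₜ b := by
  induction c using TensorProduct.induction_on with
  | zero => exact ⟨1, 0, fun h => Ideal.IsPrime.ne_top ‹_› ((Ideal.eq_top_iff_one _).2 h), by simp⟩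
  | tmul l y =>
    obtain ⟨⟨a, d, hd⟩, ha⟩ := IsLocalization.surj (nonZeroDivisors (R ⧸ p)) l
    obtain ⟨a, rfl⟩ := Ideal.Quotient.mk_surjective a
    obtain ⟨d, rfl⟩ := Ideal.Quotient.mk_surjective d
    refine ⟨d, a • y, fun h => nonZeroDivisors.ne_zero hd (Ideal.Quotient.eq_zero_iff_mem.2 h), ?_⟩
    have ha' : l * algebraMap R p.ResidueField d = algebraMap R p.ResidueField a := by
      simpa [← Ideal.Quotient.algebraMap_eq, ← IsScalarTower.algebraMap_apply] using ha
    rw [TensorProduct.smul_tmul', smul_eq_mul, mul_comm, ha', Algebra.algebraMap_eq_smul_one, TensorProduct.smul_tmul]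
  | add x y hx hy =>
    obtain ⟨u, b, hu, hb⟩ := hx
    obtain ⟨u', b', hu', hb'⟩ := hy
    refine ⟨u * u', u' • b + u • b', fun h => (Ideal.IsPrime.mem_or_mem ‹_› h).elim hu hu', ?_⟩
    rw [TensorProduct.tmul_add, smul_add, map_mul, mul_smul, mul_smul,
      smul_comm (algebraMap R p.ResidueField u) (algebraMap R p.ResidueField u') x, hb, hb',
      algebraMap_smul, algebraMap_smul, ← TensorProduct.tmul_smul, ← TensorProduct.tmul_smul]

variable [Module.Finite R B] [Module.Projective R B]

variable (R B) in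
theorem exists_dualBasis : ∃ (n : ℕ) (φ : Fin n → (B →ₗ[R] R)) (b : Fin n → B), ∀ y, ∑ i, φ i y • b i = y := by
  obtain ⟨n, f, g, -, -, hfg⟩ := Module.Finite.exists_comp_eq_id_of_projective R B
  refine ⟨n, fun i => LinearMap.proj i ∘ₗ g, fun i => f (Pi.single i 1), fun y => ?_⟩
  have h : f (g y) = y := LinearMap.congr_fun hfg y
  conv_rhs => rw [← h, pi_eq_sum_univ' (g y), map_sum]
  exact Finset.sum_congr rfl fun i _ => (map_smul f _ _).symm

theorem barF_expand {n : ℕ} {φ : Fin n → (B →ₗ[R] R)} {b : Fin n → B} (hb : ∀ y, ∑ i, φ i y • b i = y)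
    (z : p.Fiber B) : ∑ i, barF p (φ i) z • ((1 : p.ResidueField) ⊗ₜ[R] b i) = z := by
  induction z using TensorProduct.induction_on with
  | zero => simp
  | tmul l y =>
    conv_rhs => rw [← hb y, TensorProduct.tmul_sum]
    refine Finset.sum_congr rfl fun i _ => ?_
    rw [barF_tmul, TensorProduct.smul_tmul', smul_eq_mul, mul_one, TensorProduct.tmul_smul,
      TensorProduct.smul_tmul', Algebra.smul_def, mul_comm]
  | add x y hx hy => simp only [map_add, add_smul, Finset.sum_add_distrib, hx, hy]

variable (q : Ideal (p.Fiber B)) [q.IsPrime]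

/-- The fibre is Gorenstein at a point iff some functional generates the functionals there. -/
theorem gorenstein_iff_exists_generator (Q : PrimeSpectrum B)
    (hQ : Q.asIdeal = q.comap Algebra.TensorProduct.includeRight) :
    letI := dualModule R B
    LocCoh.IsGorensteinLocalRing (Localization.AtPrime q) ↔
      ∃ φ : B →ₗ[R] R, Q ∉ Module.support B ((B →ₗ[R] R) ⧸ Submodule.span B {φ}) := by
  classical
  letI := dualModule R B
  let κ := p.ResidueField
  let C := p.Fiber B
  let A := Localization.AtPrime q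
  haveI : IsArtinianRing C := IsArtinianRing.of_finite κ C
  have hsurj : Function.Surjective (algebraMap C A) := IsArtinianRing.localization_surjective q.primeCompl A
  haveI : Module.Finite κ A := Module.Finite.of_surjective (IsScalarTower.toAlgHom κ C A).toLinearMap hsurj
  obtain ⟨e, he, heker⟩ := exists_factor_unit q
  obtain ⟨sec, hsec⟩ := (IsScalarTower.toAlgHom κ C A).toLinearMap.exists_rightInverse_of_surjective
    (LinearMap.range_eq_top.2 hsurj)
  let σ : A →ₗ[κ] C := LinearMap.mulLeft κ e ∘ₗ sec
  have hσ : ∀ z, σ (algebraMap C A z) = e * z := fun z => by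
    have h : algebraMap C A (sec (algebraMap C A z)) = algebraMap C A z := LinearMap.congr_fun hsec _
    have := heker (sec (algebraMap C A z) - z) (by rw [map_sub, h, sub_self])
    rw [mul_sub, sub_eq_zero] at this
    exact this
  have hunit : ∀ s : B, s ∉ Q.asIdeal ↔ IsUnit (algebraMap C A (1 ⊗ₜ s)) := fun s => by
    rw [hQ, IsLocalization.AtPrime.isUnit_to_map_iff A q]
    rfl
  obtain ⟨n, dφ, db, hdb⟩ := exists_dualBasis R B
  constructor
  · intro hG
    haveI := hG
    obtain ⟨ψ, hψ⟩ := exists_functional κ A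
    let χ : C →ₗ[κ] κ := ψ ∘ₗ (IsScalarTower.toAlgHom κ C A).toLinearMap
    choose d a hd hda using fun i => exists_smul_eq_tmul (B := R) p (χ (1 ⊗ₜ db i) ⊗ₜ (1 : R))
    have hda' : ∀ i, algebraMap R κ (d i) * χ (1 ⊗ₜ db i) = algebraMap R κ (a i) := fun i => by
      have := congrArg (Algebra.TensorProduct.rid R κ κ) (hda i)
      simpa [TensorProduct.smul_tmul', Algebra.smul_def] using this
    let r : R := ∏ i, d i
    have hr : r ∉ p := fun h => by
      obtain ⟨i, -, hi⟩ := (Ideal.IsPrime.prod_mem_iff).1 h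
      exact hd i hi
    let φ : B →ₗ[R] R := ∑ i, ((∏ j ∈ Finset.univ.erase i, d j) * a i) • dφ i
    have hφ : ∀ z, barF p φ z = algebraMap R κ r * χ z := by
      intro z
      induction z using TensorProduct.induction_on with
      | zero => simp
      | tmul l y =>
        have h1 : χ (l ⊗ₜ y) = l * ∑ i, algebraMap R κ (dφ i y) * χ (1 ⊗ₜ db i) := by
          conv_lhs => rw [← barF_expand p hdb (l ⊗ₜ y), map_sum]
          rw [Finset.mul_sum]
          refine Finset.sum_congr rfl fun i _ => ?_
          rw [map_smul, barF_tmul, smul_eq_mul, mul_assoc]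
        rw [h1, barF_tmul]
        simp only [φ, LinearMap.coe_sum, Finset.sum_apply, LinearMap.smul_apply, smul_eq_mul, map_sum, map_mul,
          Finset.mul_sum]
        refine Finset.sum_congr rfl fun i _ => ?_
        have hri : algebraMap R κ r = algebraMap R κ (d i) * algebraMap R κ (∏ j ∈ Finset.univ.erase i, d j) := by
          rw [← map_mul, Finset.mul_prod_erase _ _ (Finset.mem_univ i)]
        rw [hri, ← hda' i]
        ring
      | add x y hx hy => rw [map_add, map_add, hx, hy, mul_add]
    refine ⟨φ, fun hsupp => ?_⟩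
    let K := (B →ₗ[R] R) ⧸ Submodule.span B {φ}
    have hRB : ∀ (x : R) (f : B →ₗ[R] R), algebraMap R B x • f = x • f := fun x f => LinearMap.ext fun y => by
      show f (algebraMap R B x * y) = _
      rw [← Algebra.smul_def, map_smul]
      rfl
    have hsc : ∀ f : B →ₗ[R] R, ∃ t ∉ Q.asIdeal, ∃ b : B, ∃ v ∈ (Q.asIdeal • ⊤ : Submodule B (B →ₗ[R] R)),
        t • f = b • φ + v := by
      intro f
      let D : A →ₗ[κ] Module.Dual κ A := LinearMap.compr₂ (LinearMap.mul κ A) ψ
      have hD : Function.Injective D :=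
        (injective_iff_map_eq_zero D).2 fun x hx => hψ x fun y => LinearMap.congr_fun hx y
      obtain ⟨a₀, ha₀⟩ := (LinearMap.injective_iff_surjective_of_finrank_eq_finrank
        (Subspace.dual_finrank_eq (K := κ) (V := A)).symm).1 hD (barF p f ∘ₗ σ)
      obtain ⟨c₀, rfl⟩ := hsurj a₀
      obtain ⟨u, eb, hu, heb⟩ := exists_smul_eq_tmul p e
      obtain ⟨u', cb, hu', hcb⟩ := exists_smul_eq_tmul p c₀
      refine ⟨(r * u') • eb, ?_, u • cb, _, ?_, (add_sub_cancel _ _).symm⟩
      · refine (hunit _).2 ?_
        rw [TensorProduct.tmul_smul, ← heb, ← algebraMap_smul κ (r * u'), smul_smul, Algebra.smul_def, map_mul, he, mul_one,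
          ← IsScalarTower.algebraMap_apply]
        refine (IsUnit.mk0 (_ : κ) (mul_ne_zero ?_ ?_)).map (algebraMap κ A)
        · exact fun h => (Ideal.IsPrime.mem_or_mem ‹_› (Ideal.algebraMap_residueField_eq_zero.1 h)).elim hr hu'
        · exact fun h => hu (Ideal.algebraMap_residueField_eq_zero.1 h)
      · have key : ∀ y, algebraMap R κ (f ((r * u') • eb * y)) = algebraMap R κ (φ (u • cb * y)) := fun y => by
          have h1 : barF p f (((1 : κ) ⊗ₜ ((r * u') • eb)) * (1 ⊗ₜ y)) = algebraMap R κ (f ((r * u') • eb * y)) := by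
            rw [Algebra.TensorProduct.tmul_mul_tmul, barF_tmul, one_mul, one_mul]
          have h2 : barF p φ (((1 : κ) ⊗ₜ (u • cb)) * (1 ⊗ₜ y)) = algebraMap R κ (φ (u • cb * y)) := by
            rw [Algebra.TensorProduct.tmul_mul_tmul, barF_tmul, one_mul, one_mul]
          have h3 : ψ (algebraMap C A c₀ * algebraMap C A (1 ⊗ₜ y)) = barF p f (σ (algebraMap C A (1 ⊗ₜ y))) :=
            LinearMap.congr_fun ha₀ _
          rw [hσ, ← map_mul] at h3
          rw [← h1, ← h2, TensorProduct.tmul_smul, TensorProduct.tmul_smul, ← heb, ← hcb,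
            ← algebraMap_smul κ (r * u'), ← algebraMap_smul κ u, smul_smul, smul_smul, smul_mul_assoc,
            smul_mul_assoc, map_smul, map_smul, smul_eq_mul, smul_eq_mul, hφ, map_mul, ← h3]
          rw [show χ (c₀ * ((1 : κ) ⊗ₜ y)) = ψ (algebraMap C A (c₀ * (1 ⊗ₜ y))) from rfl]
          ring
        have hmem : ∀ y, ((((r * u') • eb) • f - (u • cb) • φ : B →ₗ[R] R)) y ∈ p := fun y => by
          rw [← Ideal.algebraMap_residueField_eq_zero (I := p)]
          show algebraMap R κ (f _ - φ _) = 0
          rw [map_sub, sub_eq_zero]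
          exact key y
        generalize (((r * u') • eb) • f - (u • cb) • φ : B →ₗ[R] R) = v at hmem
        have hv : v = ∑ i, algebraMap R B (v (db i)) • dφ i := LinearMap.ext fun y => by
          conv_lhs => rw [← hdb y, map_sum]
          simp only [hRB, LinearMap.coe_sum, Finset.sum_apply, LinearMap.smul_apply, map_smul, smul_eq_mul, mul_comm]
        rw [hv]
        refine Submodule.sum_mem _ fun i _ => Submodule.smul_mem_smul ?_ trivial
        rw [hQ, Ideal.mem_comap, AlgHom.commutes, IsScalarTower.algebraMap_apply R κ C,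
          Ideal.algebraMap_residueField_eq_zero.2 (hmem (db i)), map_zero]
        exact zero_mem q
    choose t ht b v hv htf using fun i => hsc (dφ i)
    let T : B := ∏ i, t i
    have hT : T ∉ Q.asIdeal := fun h => by
      obtain ⟨i, -, hi⟩ := (Ideal.IsPrime.prod_mem_iff).1 h
      exact ht i hi
    haveI : IsScalarTower R B (B →ₗ[R] R) := IsScalarTower.of_algebraMap_smul hRB
    haveI : Module.Finite B (B →ₗ[R] R) := Module.Finite.of_restrictScalars_finite R B _
    have h0 : Q ∉ Module.support B (K ⧸ (Q.asIdeal • ⊤ : Submodule B K)) := by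
      rw [Module.notMem_support_iff']
      refine fun z => ⟨T, hT, ?_⟩
      obtain ⟨z, rfl⟩ := Submodule.Quotient.mk_surjective _ z
      obtain ⟨f, rfl⟩ := Submodule.Quotient.mk_surjective _ z
      rw [← Submodule.Quotient.mk_smul, Submodule.Quotient.mk_eq_zero]
      have hf : f = ∑ i, algebraMap R B (f (db i)) • dφ i := LinearMap.ext fun y => by
        conv_lhs => rw [← hdb y, map_sum]
        simp only [hRB, LinearMap.coe_sum, Finset.sum_apply, LinearMap.smul_apply, map_smul, smul_eq_mul, mul_comm]
      rw [hf, ← Submodule.mkQ_apply, map_sum, Finset.smul_sum]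
      refine Submodule.sum_mem _ fun i _ => ?_
      rw [map_smul, smul_comm]
      refine Submodule.smul_mem _ _ ?_
      rw [show T = (∏ j ∈ Finset.univ.erase i, t j) * t i from (Finset.prod_erase_mul _ _ (Finset.mem_univ i)).symm,
        mul_smul]
      refine Submodule.smul_mem _ _ ?_
      rw [← map_smul, htf i, map_add, map_smul, Submodule.mkQ_apply, Submodule.mkQ_apply,
        (Submodule.Quotient.mk_eq_zero _).2 (Submodule.mem_span_singleton_self φ), smul_zero, zero_add]
      have := Submodule.mem_map_of_mem (f := (Submodule.span B {φ}).mkQ) (hv i)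
      rwa [Submodule.map_smul'', Submodule.map_top, Submodule.range_mkQ] at this
    refine h0 ?_
    rw [Module.support_quotient]
    exact ⟨hsupp, (PrimeSpectrum.mem_zeroLocus _ _).2 (le_refl _)⟩
  · rintro ⟨φ, hφ⟩
    haveI : IsScalarTower R B (B →ₗ[R] R) := IsScalarTower.of_algebraMap_smul fun x f => LinearMap.ext fun y => by
      show f (algebraMap R B x * y) = _
      rw [← Algebra.smul_def, map_smul]
      rfl
    haveI : Module.Finite B (B →ₗ[R] R) := Module.Finite.of_restrictScalars_finite R B _
    obtain ⟨s, hs, hsQ⟩ : ∃ s ∈ Module.annihilator B ((B →ₗ[R] R) ⧸ Submodule.span B {φ}), s ∉ Q.asIdeal := by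
      rwa [Module.support_eq_zeroLocus, PrimeSpectrum.mem_zeroLocus, Set.not_subset] at hφ
    refine isGorensteinLocalRing_of_functional (barF p φ ∘ₗ σ) fun a ha => ?_
    obtain ⟨c, rfl⟩ := hsurj a
    have h0 : (1 ⊗ₜ s : C) * (e * c) = 0 := by
      rw [← barF_expand p hdb ((1 ⊗ₜ s : C) * (e * c))]
      refine Finset.sum_eq_zero fun i _ => ?_
      have h1 := Module.mem_annihilator.1 hs (Submodule.Quotient.mk (dφ i))
      rw [← Submodule.Quotient.mk_smul, Submodule.Quotient.mk_eq_zero, Submodule.mem_span_singleton] at h1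
      obtain ⟨b, hb⟩ := h1
      rw [barF_eq_mul p (b := b) fun y => congrArg (algebraMap R κ) (LinearMap.congr_fun hb y).symm]
      have h2 : barF p φ (σ (algebraMap C A c * algebraMap C A (1 ⊗ₜ b))) = 0 := ha _
      rw [← map_mul, hσ] at h2
      rw [show (1 ⊗ₜ b : C) * (e * c) = e * (c * (1 ⊗ₜ b)) by ring, h2, zero_smul]
    have h3 := congrArg (algebraMap C A) h0
    rw [map_mul, map_mul, he, one_mul, map_zero] at h3
    exact ((hunit s).1 hsQ).mul_right_eq_zero.1 h3

end Fibre

end Groth.L21.GorOpen
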