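import Groth.Agent.L21.GorensteinSpace
import Groth.Agent.L21.GorOpen.Main
import Groth.Agent.S3626

/-!
The Gorenstein locus of a flat, locally finitely presented morphism of algebraic spaces is open and
commutes with every base change.
-/

set_option autoImplicit false

universe u

open CategoryTheory CategoryTheory.Limits AlgebraicGeometry AlgSp

set_option backward.isDefEq.respectTransparency.types false

namespace Groth.L21.GorOpen

open Groth.L23 Groth.L21.GorensteinCharts Groth.L21.GorensteinSpace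

variable {S : Scheme.{u}} {X Y : Sp S}

/-- Charts of a base change over a given point. -/
theorem exists_chart_pullback (hX : IsAlgSpace X) (hY : IsAlgSpace Y) {X' Y' : Sp S} (hY' : IsAlgSpace Y')
    {f : X ⟶ Y} {g : Y' ⟶ Y} {pX : X' ⟶ X} {f' : X' ⟶ Y'} (hsq : IsPullback pX f' f g) (x' : Points X') :
    ∃ (U V U' V' : Over S) (a : (yon S).obj U ⟶ X) (b : (yon S).obj V ⟶ Y) (h₀ : U ⟶ V)
      (a' : (yon S).obj U' ⟶ X') (e : (yon S).obj V' ⟶ Y') (h₀' : U' ⟶ V') (pU : U' ⟶ U) (g₀ : V' ⟶ V)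
      (u' : U'.left), RepWith @Etale a ∧ RepWith @Etale b ∧ RepWith @Etale a' ∧ RepWith @Etale e ∧
        a ≫ f = (yon S).map h₀ ≫ b ∧ a' ≫ f' = (yon S).map h₀' ≫ e ∧ a' ≫ pX = (yon S).map pU ≫ a ∧
        IsPullback pU h₀' h₀ g₀ ∧ Points.ofPt a' u' = x' := by
  obtain ⟨V, b, hb, hbs⟩ := hY.atlas
  obtain ⟨U₁, a₁, ha₁, has₁⟩ := hX.atlas
  obtain ⟨U, p, h₀, -, ha, has, w₁⟩ := exists_chart_of_charts f ha₁ has₁ hb hbs
  set a := (yon S).map p ≫ a₁
  have sqQ := IsPullback.of_hasPullback b g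
  obtain ⟨V', π, hπ, hπs⟩ :=
    (isAlgSpace_of_isPullback hY.diag (IsAlgSpace.yon_obj V) hY' sqQ).atlas
  let e := π ≫ pullback.snd b g
  have he : RepWith @Etale e := repWith_comp hπ (repWith_of_isPullback sqQ hb)
  obtain ⟨g₀, hg₀⟩ := (yon S).map_surjective (π ≫ pullback.fst b g)
  have heg : e ≫ g = (yon S).map g₀ ≫ b := by
    rw [hg₀, Category.assoc, Category.assoc, sqQ.w]
  let U' := pullback h₀ g₀
  let pU : U' ⟶ U := pullback.fst h₀ g₀
  let h₀' : U' ⟶ V' := pullback.snd h₀ g₀
  have sU : IsPullback pU h₀' h₀ g₀ := IsPullback.of_hasPullback _ _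
  have sQX : IsPullback (pullback.fst f' e ≫ pX) (pullback.snd f' e) f ((yon S).map g₀ ≫ b) :=
    heg ▸ (IsPullback.of_hasPullback f' e).paste_horiz hsq
  let lX := sQX.lift ((yon S).map pU ≫ a) ((yon S).map h₀')
    (by rw [Category.assoc, w₁, ← Functor.map_comp_assoc, sU.w, Functor.map_comp, Category.assoc])
  let a' := lX ≫ pullback.fst f' e
  have ha' : RepWith @Etale a' := repWith_comp (repWith_etale_lift ha hb w₁ sU sQX)
    (repWith_of_isPullback (IsPullback.of_hasPullback f' e).flip he)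
  have ea₁ : a' ≫ pX = (yon S).map pU ≫ a := by
    simp only [a', Category.assoc]; exact sQX.lift_fst _ _ _
  have ea₂ : a' ≫ f' = (yon S).map h₀' ≫ e := by
    simp only [a', Category.assoc, pullback.condition]
    rw [← Category.assoc, show lX ≫ pullback.snd f' e = _ from sQX.lift_snd _ _ _]
  clear_value a'
  obtain ⟨u', hu'⟩ : ∃ u' : U'.left, Points.ofPt a' u' = x' := by
    obtain ⟨u, hu⟩ := surjective_ofPt has (Points.map pX x')
    have sR := IsPullback.of_hasPullback a pX
    obtain ⟨r, -, hr⟩ := exists_of_isPullback sR (Points.ofScheme U u) x'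
      (by rw [← Points.ofPt_eq_map_ofScheme, hu])
    let m : pullback a pX ⟶ pullback b g :=
      sqQ.lift (pullback.fst a pX ≫ (yon S).map h₀) (pullback.snd a pX ≫ f') (by
        rw [Category.assoc, ← w₁, pullback.condition_assoc, Category.assoc, hsq.w])
    obtain ⟨w', hw'⟩ := surjective_ofPt hπs (Points.map m r)
    have sE := IsPullback.of_hasPullback m π
    obtain ⟨s, hs, -⟩ := exists_of_isPullback sE r (Points.ofScheme V' w')
      (by rw [← Points.ofPt_eq_map_ofScheme, hw'])
    have sU' := sU.map (yon S)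
    let n : pullback m π ⟶ (yon S).obj U' := sU'.lift
      (pullback.fst m π ≫ pullback.fst a pX) (pullback.snd m π) (by
        rw [hg₀, ← pullback.condition_assoc, sqQ.lift_fst, Category.assoc])
    have hn : n ≫ a' = pullback.fst m π ≫ pullback.snd a pX := by
      apply hsq.hom_ext
      · rw [Category.assoc, ea₁, ← Category.assoc n, sU'.lift_fst, Category.assoc, Category.assoc,
          pullback.condition]
      · rw [Category.assoc, ea₂, ← Category.assoc n, sU'.lift_snd, ← pullback.condition_assoc,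
          sqQ.lift_snd, Category.assoc]
    obtain ⟨u', hu'⟩ := (Points.schemeEquiv U').surjective (Points.map n s)
    change Points.ofScheme U' u' = _ at hu'
    refine ⟨u', ?_⟩
    rw [Points.ofPt_eq_map_ofScheme, hu', ← Points.map_comp, hn, Points.map_comp, hs, hr]
  exact ⟨U, V, U', V', a, b, h₀, a', e, h₀', pU, g₀, u', ha, hb, ha', he, w₁, ea₂, ea₁, sU, hu'⟩

/-- The Gorenstein locus of a flat lfp morphism of spaces is open. -/
theorem isOpen_locPAt_gorenstein (hX : IsAlgSpace X) (hY : IsAlgSpace Y) {f : X ⟶ Y} (hf : LocP @Flat f)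
    (hf' : LocP @LocallyOfFinitePresentation f) :
    IsOpen {x | LocPAt (fun h u => Dual3.IsGorensteinAt h u) f x} := by
  obtain ⟨V, b, hb, hbs⟩ := hY.atlas
  obtain ⟨U₁, a₁, ha₁, has₁⟩ := hX.atlas
  obtain ⟨U, p, h₀, -, ha, has, w⟩ := exists_chart_of_charts f ha₁ has₁ hb hbs
  haveI : Flat h₀.left := hf _ b h₀ ha hb w
  haveI : LocallyOfFinitePresentation h₀.left := hf' _ b h₀ ha hb w
  rw [← (isOpenQuotientMap_ofPt ha has).isQuotientMap.isOpen_preimage]
  convert isOpen_gorenstein h₀.left using 1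
  ext u
  exact locPAt_gorenstein_ofPt_iff ha hb w u

/-- The Gorenstein locus of a flat lfp morphism of spaces commutes with base change. -/
theorem locPAt_gorenstein_iff_baseChange (hX : IsAlgSpace X) (hY : IsAlgSpace Y) {X' Y' : Sp S}
    (hY' : IsAlgSpace Y') {f : X ⟶ Y} {g : Y' ⟶ Y} {pX : X' ⟶ X} {f' : X' ⟶ Y'} (hf : LocP @Flat f)
    (hf' : LocP @LocallyOfFinitePresentation f) (hsq : IsPullback pX f' f g) (x' : Points X') :
    LocPAt (fun h u => Dual3.IsGorensteinAt h u) f' x' ↔
      LocPAt (fun h u => Dual3.IsGorensteinAt h u) f (Points.map pX x') := by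
  obtain ⟨U, V, U', V', a, b, h₀, a', e, h₀', pU, g₀, u', ha, hb, ha', he, w₁, ea₂, ea₁, sU, rfl⟩ :=
    exists_chart_pullback hX hY hY' hsq x'
  haveI : Flat h₀.left := hf a b h₀ ha hb w₁
  haveI : LocallyOfFinitePresentation h₀.left := hf' a b h₀ ha hb w₁
  rw [locPAt_gorenstein_ofPt_iff ha' he ea₂ u', Points.map_ofPt, ea₁, ofPt_comp,
    locPAt_gorenstein_ofPt_iff ha hb w₁]
  exact Groth.Agent.S3626.result _ _ _ _ h₀.left g₀.left h₀'.left pU.left (sU.map (Over.forget S)) u'

end Groth.L21.GorOpen
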